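import Cfsg.Agent.Nodes.WittInst
import Cfsg.Agent.Nodes.WittAll
import Cfsg.Agent.Nodes.RGDTypeA

/-!
# `B ⊔ N = ⊤` for the frames of the classical groups (helper493, S4884)

* `hgen_psl` : `PSL_{n+1}(F)`, type `A_n`;
* `hgen_C`   : a model of a Witt frame (`PSp`, `PSU`, `PΩ` of odd dimension and of minus type), type `C_n`;
* `hgen_D`   : `PΩ⁺`, type `D_{n+2}`.
-/

set_option autoImplicit false
set_option linter.unusedSectionVars false

namespace Cfsg.Agent.H493.CC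

open Cfsg Cfsg.Agent.ChevalleyStructure.CoxeterGeom Cfsg.Agent.Tits.Roots Cfsg.Agent.Nodes.Reps Cfsg.Agent.Nodes.BNOf
  Cfsg.Agent.Nodes.RGDLib

section Psl

open Cfsg.Agent.Nodes.RootsA Cfsg.Agent.Nodes.RGDTypeA
open Cfsg.Agent.LieRecognition.BNCox (cA)

variable {F : Type*} [Field F] [Finite F] {n : ℕ} {W : Type*} [Group W] [Finite W] (cs : CoxeterSystem (cA n) W)
  {A : Fin n → Fin n → ℤ} (h : IsCartan (cA n) A)

/-- `B ⊔ N = ⊤` for `PSL_{n+1}(F)`. -/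
theorem hgen_psl {p : ℕ} [Fact p.Prime] [CharP F p] :
    RGD.B cs h ((T (Fin (n + 1)) F).map (pr n F)) (fun x => (X F x).map (pr n F)) ⊔
      NN cs (rgd_psl (F := F) (p := p) cs h).nsys = ⊤ :=
  rgd_gen_of_G1 (rgd_psl cs h) (G1_psl_eq_top cs h)

end Psl

section TypeC

open Cfsg.Agent.Nodes.WittAll Cfsg.Agent.TitsThree Cfsg.Agent.TitsThree.Siegel Cfsg.Agent.TitsThree.WittFrame
  Cfsg.Agent.TitsThree.FrameCN Cfsg.Agent.Nodes.TypeC
open Cfsg.Agent.Nodes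

variable {F : Type*} [Field F] {V : Type*} [AddCommGroup V] [Module F V] {H : HForm F V} {n : ℕ}
  {Fr : Frame H (Fin n)} {K : Type*} [Group K] (M : Model Fr K)

/-- `B ⊔ N = ⊤` for a model of a Witt frame. -/
theorem hgen_C {p : ℕ} (hA : AmbT Fr p M.I) [Finite V] [Fact p.Prime] [CharP F p] {p0 : Fr.Adm} (hp0 : p0.c ≠ 0)
    (hn : 0 < n) {W : Type*} [Group W] (cs : CoxeterSystem (CoxeterMatrix.B n) W) :
    RGD.B cs (isCartan n) (WittModel.T M) (WittModel.X M) ⊔ NN cs (rgdC_model M hA hp0 cs).nsys = ⊤ :=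
  rgd_gen_of_G1 (rgdC_model M hA hp0 cs) (WittModel.G1_eq_top M hn cs)

end TypeC

section TypeD

open QuadraticMap
open Cfsg.Agent.Nodes.WittAll Cfsg.Agent.Nodes.WittInst Cfsg.Agent.Nodes.WittRoot
open Cfsg.Agent.Nodes.WittRGD (Tor)
open Cfsg.Agent.Nodes.TypeD
open Cfsg.Agent.TitsThree Cfsg.Agent.TitsThree.Siegel Cfsg.Agent.TitsThree.SiegelGen
  Cfsg.Agent.TitsThree.WittFrame Cfsg.Agent.TitsThree.WBridge Cfsg.Agent.TitsThree.FrameCN
open Cfsg.Agent.LieClassical Cfsg.Agent.LieClassical.OrthCore Cfsg.Agent.LieClassical.OrthTrans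
open Cfsg.Agent.LieClassical.OrthSimple Cfsg.Agent.LieClassical.OrthFinite
open Cfsg.Agent.LieClassical.OrthForms
open Cfsg.Agent.TitsThree.KSideO Cfsg.Agent.TitsThree.StdData

variable {ι : Type} [Fintype ι] [DecidableEq ι] {F : Type*} [Field F] {Q : QuadraticForm F (ι → F)} {n : ℕ}

/-- `B ⊔ N = ⊤` for `PΩ` of a hyperbolic form. -/
theorem hgen_D (W : WFrame (PO Q) (n + 2)) [Finite F] (hG : Good Q) (hA : Amb (toFrame W) (E Q))
    (h0 : ∀ p : (toFrame W).Adm, p = 1) {p : ℕ} [Fact p.Prime] [CharP F p] {G : Type*} [Group G]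
    (cs : CoxeterSystem (M n) G) :
    RGD.B cs (isCartan n) (((Tor (toFrame W) (E Q)).subgroupOf (E Q)).map (toPOmega hG)) (XD W (toPOmega hG)) ⊔
      NN cs (rgdD_model (p := p) W hG hA h0 cs).nsys = ⊤ :=
  rgd_gen_of_G1 (rgdD_model W hG hA h0 cs) (G1D_eq_top W (toPOmega hG) (toPOmega_surjective hG) h0 cs)

end TypeD

end Cfsg.Agent.H493.CC
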