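import Cfsg.Agent.H215.WB.CoxB
import Cfsg.Agent.H493.CC.Inv

/-!
# The Coxeter group of type `B_n` is ambivalent (helper493, S4884)

* `exists_cc` : a permutation of the signed indices commuting with `ng` is `cc g`;
* `exists_inv_commuting` : for `π` commuting with `ng` there is an involution `τ` commuting with `ng` with `τ π τ = π⁻¹`;
* `real_B` : every `w` is conjugate to `w⁻¹`.
-/

set_option autoImplicit false

namespace Cfsg.Agent.H493.CC

open Cfsg Cfsg.Agent.H215.WB Cfsg.Agent.Nodes.TypeC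

variable {n : ℕ}

/-- the sign of a Boolean -/
def sb (b : Bool) : ℤˣ := if b then 1 else -1

theorem bx_sb (b : Bool) : bx (sb b) true = b := by cases b <;> decide

theorem bx_not (z : ℤˣ) (b : Bool) : bx z (!b) = !(bx z b) := by
  rcases Int.units_eq_one_or z with rfl | rfl <;> simp [bx_one, bx_neg]

theorem eq_or_ng' (y : Fin n × Bool) : y = (y.1, true) ∨ y = ng (y.1, true) := by
  obtain ⟨a, b⟩ := y
  cases b
  · exact Or.inr rfl
  · exact Or.inl rfl

/-- **A permutation of the signed indices commuting with `ng` is a signed permutation.** -/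
theorem exists_cc (τ : Equiv.Perm (Fin n × Bool)) (h : ∀ x, τ (ng x) = ng (τ x)) : ∃ g : Wb (Fin n), cc g = τ := by
  have h' : ∀ x, τ⁻¹ (ng x) = ng (τ⁻¹ x) := by
    intro x
    apply τ.injective
    rw [h, app_inv, app_inv]
  have key : ∀ ρ : Equiv.Perm (Fin n × Bool), (∀ x, ρ (ng x) = ng (ρ x)) → ∀ y, (ρ (y.1, true)).1 = (ρ y).1 := by
    intro ρ hρ y
    rcases eq_or_ng' y with e | e
    · rw [← e]
    · conv_rhs => rw [e, hρ]
      rfl
  let σ : Equiv.Perm (Fin n) := ⟨fun a => (τ (a, true)).1, fun a => (τ⁻¹ (a, true)).1,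
    fun a => by
      show (τ⁻¹ ((τ (a, true)).1, true)).1 = a
      rw [key _ h', inv_app],
    fun a => by
      show (τ ((τ⁻¹ (a, true)).1, true)).1 = a
      rw [key _ h, app_inv]⟩
  refine ⟨⟨fun b => sb (τ (σ⁻¹ b, true)).2, σ⟩, Equiv.ext fun x => ?_⟩
  rw [cc_apply]
  show (σ x.1, bx (sb (τ (σ⁻¹ (σ x.1), true)).2) x.2) = τ x
  have e1 : σ⁻¹ (σ x.1) = x.1 := inv_app _ _
  rw [e1]
  have e2 : ∀ b : Bool, (σ x.1, bx (sb (τ (x.1, true)).2) b) = τ (x.1, b) := by
    intro b
    cases b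
    · have e3 : ((x.1, false) : Fin n × Bool) = ng (x.1, true) := rfl
      rw [e3, h]
      have e4 : false = !true := rfl
      refine Prod.ext rfl ?_
      show bx (sb (τ (x.1, true)).2) false = !(τ (x.1, true)).2
      rw [e4, bx_not, bx_sb]
    · refine Prod.ext rfl ?_
      show bx (sb (τ (x.1, true)).2) true = (τ (x.1, true)).2
      rw [bx_sb]
  exact e2 x.2

/-- `ng` as a permutation -/
def ngP (n : ℕ) : Equiv.Perm (Fin n × Bool) := ⟨ng, ng, ng_ng, ng_ng⟩

theorem ngP_apply (x : Fin n × Bool) : ngP n x = ng x := rfl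

theorem cc_ng (g : Wb (Fin n)) (x : Fin n × Bool) : cc g (ng x) = ng (cc g x) := by
  rw [cc_apply, cc_apply]
  refine Prod.ext rfl ?_
  exact bx_not _ _

/-- **The inverting involution.** -/
theorem exists_inv_commuting (π : Equiv.Perm (Fin n × Bool)) (h : ∀ x, π (ng x) = ng (π x)) :
    ∃ τ : Equiv.Perm (Fin n × Bool), (∀ x, τ (ng x) = ng (τ x)) ∧ τ * τ = 1 ∧ τ * π * τ⁻¹ = π⁻¹ := by
  have hc : π * ngP n = ngP n * π := Equiv.ext fun x => h x
  set A : Subgroup (Equiv.Perm (Fin n × Bool)) := Subgroup.closure {π, ngP n} with hA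
  have hcomm : ∀ a b : A, a * b = b * a := by
    have h1 : ∀ x ∈ ({π, ngP n} : Set (Equiv.Perm (Fin n × Bool))), ∀ y ∈ ({π, ngP n} : Set (Equiv.Perm (Fin n × Bool))),
        x * y = y * x := by
      rintro x (rfl | rfl) y (rfl | rfl)
      · rfl
      · exact hc
      · exact hc.symm
      · rfl
    exact (Subgroup.isMulCommutative_closure h1).is_comm.comm
  obtain ⟨τ, h1, h2, -, -⟩ := exists_inv (A := A) (X := Fin n × Bool) hcomm
  have hπ : π ∈ A := Subgroup.subset_closure (Or.inl rfl)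
  have hn : ngP n ∈ A := Subgroup.subset_closure (Or.inr rfl)
  refine ⟨τ, fun x => ?_, Equiv.ext fun x => h2 x, ?_⟩
  · have h3 := h1 ⟨ngP n, hn⟩ x
    have h4 : (ngP n)⁻¹ = ngP n := rfl
    exact h3
  · rw [mul_inv_eq_iff_eq_mul]
    exact Equiv.ext fun x => h1 ⟨π, hπ⟩ x

/-- every signed permutation is conjugate to its inverse -/
theorem real_Wb (g : Wb (Fin n)) : ∃ k : Wb (Fin n), k * k = 1 ∧ k * g * k⁻¹ = g⁻¹ := by
  obtain ⟨τ, h1, h2, h3⟩ := exists_inv_commuting (cc g) (cc_ng g)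
  obtain ⟨k, rfl⟩ := exists_cc τ h1
  refine ⟨k, cc_injective (by rw [map_mul, h2, map_one]), cc_injective ?_⟩
  rw [map_mul, map_mul, map_inv, map_inv, h3]

/-- **Every element of the Coxeter group of type `B_n` is conjugate to its inverse.** -/
theorem real_B {W : Type*} [Group W] (cs : CoxeterSystem (CoxeterMatrix.B n) W) (w : W) : IsConj w w⁻¹ := by
  obtain ⟨k, -, hk⟩ := real_Wb (isoB cs w)
  rw [isConj_iff]
  refine ⟨(isoB cs).symm k, (isoB cs).injective ?_⟩
  rw [map_mul, map_mul, map_inv, MulEquiv.apply_symm_apply, hk, map_inv]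

end Cfsg.Agent.H493.CC
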