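import Cfsg.Agent.H215.WB.CoxB
import Cfsg.Agent.Nodes.TypeD

/-!
# The Coxeter group of type `D_{n+2}` is the group of even signed permutations (helper493, S4884)

* `par : Wb α →* ℤˣ`, the product of the signs; `par_eq_sign` : `par g = sign (cc g)`;
* `homD cs : W →* Wb (Fin (n + 2))` for `cs : CoxeterSystem (TypeD.M n) W`; `homD_simple_lt`, `homD_simple_last`;
* `homD_injective`, `range_homD : (homD cs).range = par.ker`; `isoD cs : W ≃* par.ker`.
-/

set_option autoImplicit false
set_option linter.unusedSectionVars false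

namespace Cfsg.Agent.H493.CC

open Cfsg Cfsg.Agent.ChevalleyStructure.CoxeterGeom Cfsg.Agent.Tits.Roots Cfsg.Agent.H215.WB
open Cfsg.Agent.Nodes.TypeC (wt ng)
open Cfsg.Agent.Nodes.TypeD

/-! ### The parity -/

/-- the product of the signs -/
def par {α : Type*} [Fintype α] [DecidableEq α] : Wb α →* ℤˣ where
  toFun g := ∏ a, g.left a
  map_one' := by simp
  map_mul' g h := by
    rw [SemidirectProduct.mul_left]
    have h1 : ∏ a, ((act α) g.right h.left) a = ∏ a, h.left a := by
      simp only [act_apply]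
      exact Equiv.prod_comp g.right⁻¹ h.left
    simp only [Pi.mul_apply]
    rw [Finset.prod_mul_distrib, h1]

theorem par_apply {α : Type*} [Fintype α] [DecidableEq α] (g : Wb α) : par g = ∏ a, g.left a := rfl

theorem par_inr {α : Type*} [Fintype α] [DecidableEq α] (σ : Equiv.Perm α) :
    par (SemidirectProduct.inr σ : Wb α) = 1 := by
  rw [par_apply]
  simp

theorem par_inl {α : Type*} [Fintype α] [DecidableEq α] (ε : α → ℤˣ) :
    par (SemidirectProduct.inl ε : Wb α) = ∏ a, ε a := rfl

theorem sign_f2 {n : ℕ} (σ : Equiv.Perm (Fin n)) : Equiv.Perm.sign (f2 σ) = 1 := by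
  have h1 : f2 σ = (Equiv.prodCongrLeft fun _ : Bool => σ) := Equiv.ext fun x => rfl
  rw [h1, Equiv.Perm.sign_prodCongrLeft]
  simp only [Finset.prod_const, Finset.card_univ, Fintype.card_bool]
  exact Int.units_sq _

theorem sign_f1 {n : ℕ} (ε : Fin n → ℤˣ) : Equiv.Perm.sign (f1 ε) = ∏ a, ε a := by
  have h1 : f1 ε = (Equiv.prodCongrRight fun a => if ε a = 1 then (1 : Equiv.Perm Bool) else Equiv.swap true false) := by
    refine Equiv.ext fun x => ?_
    show (x.1, bx (ε x.1) x.2) = (x.1, (if ε x.1 = 1 then (1 : Equiv.Perm Bool) else Equiv.swap true false) x.2)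
    refine Prod.ext rfl ?_
    show bx (ε x.1) x.2 = (if ε x.1 = 1 then (1 : Equiv.Perm Bool) else Equiv.swap true false) x.2
    rcases Int.units_eq_one_or (ε x.1) with h | h
    · rw [h, bx_one, if_pos rfl, Equiv.Perm.one_apply]
    · rw [h, bx_neg, if_neg (by decide)]
      cases x.2 <;> rfl
  rw [h1, Equiv.Perm.sign_prodCongrRight]
  refine Finset.prod_congr rfl fun a _ => ?_
  rcases Int.units_eq_one_or (ε a) with h | h
  · rw [h, if_pos rfl, Equiv.Perm.sign_one]
  · rw [h, if_neg (by decide), Equiv.Perm.sign_swap (by decide)]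

/-- **The parity is the sign on the signed indices.** -/
theorem par_eq_sign {n : ℕ} (g : Wb (Fin n)) : par g = Equiv.Perm.sign (cc g) := by
  conv_rhs => rw [← SemidirectProduct.inl_left_mul_inr_right g]
  rw [map_mul]
  have h1 : cc (SemidirectProduct.inl g.left : Wb (Fin n)) = f1 g.left := SemidirectProduct.lift_inl _ _ _ _
  have h2 : cc (SemidirectProduct.inr g.right : Wb (Fin n)) = f2 g.right := SemidirectProduct.lift_inr _ _ _ _
  rw [h1, h2, map_mul, sign_f1, sign_f2, mul_one]
  rfl

/-! ### The homomorphism -/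

variable {n : ℕ}

/-- the simple reflections as permutations of the signed indices -/
def PD (i : Fin (n + 2)) : Equiv.Perm (Fin (n + 2) × Bool) := ⟨sg i, sg i, sg_sg i, sg_sg i⟩

theorem PD_apply (i : Fin (n + 2)) (x : Fin (n + 2) × Bool) : PD i x = sg i x := rfl

/-- the generators -/
def genD (i : Fin (n + 2)) : Wb (Fin (n + 2)) :=
  if h : (i : ℕ) + 1 < n + 2 then SemidirectProduct.inr (Equiv.swap i ⟨i + 1, h⟩)
  else SemidirectProduct.inl (Pi.mulSingle i (-1) * Pi.mulSingle (pd n) (-1)) *
    SemidirectProduct.inr (Equiv.swap i (pd n))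

theorem genD_lt {i : Fin (n + 2)} (h : (i : ℕ) + 1 < n + 2) :
    genD i = SemidirectProduct.inr (Equiv.swap i ⟨i + 1, h⟩) := dif_pos h

theorem genD_last {i : Fin (n + 2)} (h : ¬ (i : ℕ) + 1 < n + 2) :
    genD i = SemidirectProduct.inl (Pi.mulSingle i (-1) * Pi.mulSingle (pd n) (-1)) *
      SemidirectProduct.inr (Equiv.swap i (pd n)) := dif_neg h

theorem ne_pd {i : Fin (n + 2)} (h : ¬ (i : ℕ) + 1 < n + 2) : i ≠ pd n := by
  intro e
  apply h
  rw [e]
  simp [pd]

theorem cc_genD (i : Fin (n + 2)) : cc (genD i) = PD i := by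
  refine Equiv.ext fun x => ?_
  rw [PD_apply]
  by_cases h : (i : ℕ) + 1 < n + 2
  · rw [genD_lt h, cc_apply, SemidirectProduct.right_inr, SemidirectProduct.left_inr, Pi.one_apply, bx_one, sg, dif_pos h]
    by_cases h1 : x.1 = i
    · rw [if_pos h1, h1, Equiv.swap_apply_left]
    · rw [if_neg h1]
      by_cases h2 : x.1 = ⟨i + 1, h⟩
      · rw [if_pos h2, h2, Equiv.swap_apply_right]
      · rw [if_neg h2, Equiv.swap_apply_of_ne_of_ne h1 h2]
  · have hne := ne_pd h
    have e0 : ∀ x : Fin (n + 2) × Bool, cc (SemidirectProduct.inl (Pi.mulSingle i (-1) * Pi.mulSingle (pd n) (-1)) *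
        SemidirectProduct.inr (Equiv.swap i (pd n)) : Wb (Fin (n + 2))) x =
        (Equiv.swap i (pd n) x.1, bx ((Pi.mulSingle i (-1) * Pi.mulSingle (pd n) (-1) : Fin (n + 2) → ℤˣ)
          (Equiv.swap i (pd n) x.1)) x.2) := by
      intro x
      rw [map_mul, Equiv.Perm.mul_apply, cc_apply, cc_apply, SemidirectProduct.right_inr, SemidirectProduct.left_inr,
        SemidirectProduct.right_inl, SemidirectProduct.left_inl, Pi.one_apply, bx_one, Equiv.Perm.one_apply]
    rw [genD_last h, e0, sg, dif_neg h]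
    by_cases h1 : x.1 = i
    · rw [if_pos h1, h1, Equiv.swap_apply_left, Pi.mul_apply, Pi.mulSingle_eq_same, Pi.mulSingle_eq_of_ne hne.symm,
        one_mul, bx_neg]
    · rw [if_neg h1]
      by_cases h2 : x.1 = pd n
      · rw [if_pos h2, h2, Equiv.swap_apply_right, Pi.mul_apply, Pi.mulSingle_eq_same, Pi.mulSingle_eq_of_ne hne,
          mul_one, bx_neg]
      · rw [if_neg h2, Equiv.swap_apply_of_ne_of_ne h1 h2, Pi.mul_apply, Pi.mulSingle_eq_of_ne h1,
          Pi.mulSingle_eq_of_ne h2, mul_one, bx_one]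

theorem PD_pow (i j : Fin (n + 2)) (m : ℕ) (x : Fin (n + 2) × Bool) :
    ((PD i * PD j) ^ m) x = (fun y => sg i (sg j y))^[m] x := by
  induction m with
  | zero => rfl
  | succ m ih =>
    rw [pow_succ', Equiv.Perm.mul_apply, ih, Function.iterate_succ_apply', Equiv.Perm.mul_apply, PD_apply, PD_apply]

theorem liftableD : (M n).IsLiftable (genD : Fin (n + 2) → Wb (Fin (n + 2))) := by
  intro i j
  apply cc_injective
  rw [map_pow, map_mul, cc_genD, cc_genD, map_one]
  refine Equiv.ext fun x => ?_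
  rw [PD_pow, sg_braid, Equiv.Perm.one_apply]

section Iso

variable {W : Type*} [Group W] (cs : CoxeterSystem (M n) W)

/-- the homomorphism -/
noncomputable def homD : W →* Wb (Fin (n + 2)) := cs.lift ⟨genD, liftableD⟩

theorem homD_simple (i : Fin (n + 2)) : homD cs (cs.simple i) = genD i := cs.lift_apply_simple liftableD i

theorem homD_simple_lt {i : Fin (n + 2)} (h : (i : ℕ) + 1 < n + 2) :
    homD cs (cs.simple i) = SemidirectProduct.inr (Equiv.swap i ⟨i + 1, h⟩) := by rw [homD_simple, genD_lt h]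

theorem homD_simple_last {i : Fin (n + 2)} (h : ¬ (i : ℕ) + 1 < n + 2) :
    homD cs (cs.simple i) = SemidirectProduct.inl (Pi.mulSingle i (-1) * Pi.mulSingle (pd n) (-1)) *
      SemidirectProduct.inr (Equiv.swap i (pd n)) := by rw [homD_simple, genD_last h]

theorem ee_actD (w : W) : ∀ (x : Fin (n + 2) → ℤ) (a b : Fin (n + 2) × Bool), ee x = wt a + wt b →
    ee (rep cs (isCartan n) w x) = wt (cc (homD cs w) a) + wt (cc (homD cs w) b) := by
  induction w using cs.simple_induction_left with
  | one =>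
    intro x a b h
    rw [map_one, map_one, map_one, Module.End.one_apply]
    exact h
  | mul_simple_left w i ih =>
    intro x a b h
    rw [rep_mul_apply, rep_simple, ee_refl_of (ih x a b h), map_mul, homD_simple, map_mul, cc_genD]
    rfl

theorem homD_injective : Function.Injective (homD cs) := by
  rw [injective_iff_map_eq_one]
  intro w hw
  apply rep_injective cs (isCartan n)
  rw [map_one]
  have h1 : ∀ i, rep cs (isCartan n) w (sr i) = sr i := by
    intro i
    apply ee_injective
    rw [ee_actD cs w (sr i) (i, true) (nx i) (ee_sr i), hw, map_one]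
    exact (ee_sr i).symm
  refine LinearMap.ext fun x => ?_
  have h2 : x = ∑ k, x k • sr k := by
    funext k
    simp [sr, Finset.sum_apply, Pi.single_apply]
  rw [h2, map_sum, Module.End.one_apply]
  exact Finset.sum_congr rfl fun k _ => by rw [map_smul, h1]

theorem par_genD (i : Fin (n + 2)) : par (genD i) = 1 := by
  by_cases h : (i : ℕ) + 1 < n + 2
  · rw [genD_lt h, par_inr]
  · rw [genD_last h, map_mul, par_inr, mul_one, par_inl]
    simp only [Pi.mul_apply, Finset.prod_mul_distrib, Finset.prod_pi_mulSingle', Finset.mem_univ, if_true]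
    decide

theorem range_le : (homD cs).range ≤ (par : Wb (Fin (n + 2)) →* ℤˣ).ker := by
  rintro _ ⟨w, rfl⟩
  induction w using cs.simple_induction_left with
  | one => rw [map_one]; exact one_mem _
  | mul_simple_left w i ih =>
    rw [map_mul, homD_simple]
    exact mul_mem ((MonoidHom.mem_ker).2 (par_genD i)) ih

theorem inr_mem (σ : Equiv.Perm (Fin (n + 2))) : (SemidirectProduct.inr σ : Wb (Fin (n + 2))) ∈ (homD cs).range := by
  have hg : ∀ i : Fin (n + 2), genD i ∈ (homD cs).range := fun i => ⟨_, homD_simple cs i⟩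
  have h3 : σ ∈ Submonoid.closure (Set.range fun i : Fin (n + 1) => Equiv.swap i.castSucc i.succ) := by
    rw [Equiv.Perm.mclosure_swap_castSucc_succ]
    exact Submonoid.mem_top σ
  have h7 : Submonoid.closure (Set.range fun i : Fin (n + 1) => Equiv.swap i.castSucc i.succ) ≤
      ((homD cs).range.comap (SemidirectProduct.inr : Equiv.Perm (Fin (n + 2)) →* Wb (Fin (n + 2)))).toSubmonoid := by
    rw [Submonoid.closure_le]
    rintro _ ⟨i, rfl⟩
    change (SemidirectProduct.inr (Equiv.swap i.castSucc i.succ) : Wb (Fin (n + 2))) ∈ (homD cs).range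
    have h4 : ((i.castSucc : Fin (n + 2)) : ℕ) + 1 < n + 2 := by
      rw [Fin.val_castSucc]
      omega
    have h5 := hg i.castSucc
    rw [genD_lt h4] at h5
    have h6 : (⟨(i.castSucc : ℕ) + 1, h4⟩ : Fin (n + 2)) = i.succ := Fin.ext (by simp)
    rw [h6] at h5
    exact h5
  exact h7 h3

theorem exists_two {α : Type*} [DecidableEq α] {x y a b : α} (hxy : x ≠ y) (hab : a ≠ b) :
    ∃ σ : Equiv.Perm α, σ x = a ∧ σ y = b := by
  refine ⟨Equiv.swap (Equiv.swap x a y) b * Equiv.swap x a, ?_, ?_⟩
  · rw [Equiv.Perm.mul_apply, Equiv.swap_apply_left]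
    apply Equiv.swap_apply_of_ne_of_ne _ hab
    intro h
    apply hxy
    apply (Equiv.swap x a).injective
    rw [Equiv.swap_apply_left]
    exact h
  · rw [Equiv.Perm.mul_apply, Equiv.swap_apply_left]

theorem pair_mem {a b : Fin (n + 2)} (hab : a ≠ b) :
    (SemidirectProduct.inl (Pi.mulSingle a (-1) * Pi.mulSingle b (-1)) : Wb (Fin (n + 2))) ∈ (homD cs).range := by
  have hl : ¬ ((Fin.last (n + 1) : Fin (n + 2)) : ℕ) + 1 < n + 2 := by simp
  have h0 : genD (Fin.last (n + 1) : Fin (n + 2)) ∈ (homD cs).range := ⟨_, homD_simple cs _⟩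
  rw [genD_last hl] at h0
  have h1 := mul_mem h0 (inv_mem (inr_mem cs (Equiv.swap (Fin.last (n + 1)) (pd n))))
  rw [mul_inv_cancel_right] at h1
  obtain ⟨σ, e1, e2⟩ := exists_two (ne_pd hl) hab
  have h3 := mul_mem (mul_mem (inr_mem cs σ) h1) (inv_mem (inr_mem cs σ))
  rw [← map_inv, ← SemidirectProduct.inl_aut, map_mul, act_single, act_single, e1, e2] at h3
  exact h3

/-- **The range: the even signed permutations.** -/
theorem range_homD : (homD cs).range = (par : Wb (Fin (n + 2)) →* ℤˣ).ker := by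
  refine le_antisymm (range_le cs) ?_
  intro g hg
  have hp : ∏ a, g.left a = 1 := hg
  rw [← SemidirectProduct.inl_left_mul_inr_right g]
  refine mul_mem ?_ (inr_mem cs _)
  have h2 : ∏ a, (Pi.mulSingle a (g.left a) * Pi.mulSingle 0 (g.left a)) ∈
      (homD cs).range.comap (SemidirectProduct.inl : (Fin (n + 2) → ℤˣ) →* Wb (Fin (n + 2))) := by
    refine Subgroup.prod_mem _ fun a _ => ?_
    rcases Int.units_eq_one_or (g.left a) with h | h
    · rw [h, Pi.mulSingle_one, Pi.mulSingle_one, mul_one]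
      exact one_mem _
    · rw [h]
      by_cases ha : a = 0
      · rw [ha, ← Pi.mulSingle_mul]
        have : (-1 : ℤˣ) * -1 = 1 := by decide
        rw [this, Pi.mulSingle_one]
        exact one_mem _
      · exact pair_mem cs ha
  rw [Finset.prod_mul_distrib, Finset.univ_prod_mulSingle] at h2
  have h3 : ∏ a, (Pi.mulSingle 0 (g.left a) : Fin (n + 2) → ℤˣ) = 1 := by
    have h4 := (map_prod (MonoidHom.mulSingle (fun _ : Fin (n + 2) => ℤˣ) 0) g.left Finset.univ).symm
    rw [hp, map_one] at h4
    exact h4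
  rw [h3, mul_one] at h2
  exact h2

/-- **The Coxeter group of type `D_{n+2}` is the group of even signed permutations.** -/
noncomputable def isoD : W ≃* (par : Wb (Fin (n + 2)) →* ℤˣ).ker :=
  (MonoidHom.ofInjective (homD_injective cs)).trans (MulEquiv.subgroupCongr (range_homD cs))

theorem coe_isoD (w : W) : ((isoD cs w : (par : Wb (Fin (n + 2)) →* ℤˣ).ker) : Wb (Fin (n + 2))) = homD cs w := rfl

end Iso

end Cfsg.Agent.H493.CC
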